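import Groth.Agent.ResProp.EF.K981.SmallH

/-!
# Sub and quotient Hopf modules (S16912, G6b, piece (b) of helper350's cut)

`c : K83.CoAlg R B D`, `X` a Hopf module, `W` a stable `D`-submodule (`coact w` lies in the image of `W ⊗ B`).  Then `W` and
`X ⧸ W` are Hopf modules, `subtype` and `mkQ` are comodule maps; kernels and images of `D`-linear comodule maps are stable.
-/

set_option autoImplicit false

universe u

open TensorProduct

noncomputable section

namespace Groth.Agent.ResProp.EF.K84.HopfSub

open K981

variable {R : Type u} [CommRing R] {B : Type u} [CommRing B] [HopfAlgebra R B]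
  {D : Type u} [CommRing D] [Algebra R D] {c : K83.CoAlg R B D}
  {X : Type u} [AddCommGroup X] [Module R X] [Module D X] [IsScalarTower R D X]
  {Y : Type u} [AddCommGroup Y] [Module R Y] [Module D Y] [IsScalarTower R D Y]

/-- stability, elementwise -/
def St (co : HopfRep.Comod R B X) (W : Submodule D X) : Prop :=
  ∀ w ∈ W, co.coact w ∈ LinearMap.range ((W.subtype.restrictScalars R).rTensor B)

theorem st_iff (co : HopfRep.Comod R B X) (W : Submodule D X) : St co W ↔ Stable co W :=
  ⟨fun h w hw => (mem_range_iff W _).1 (h w hw), fun h w hw => (mem_range_iff W _).2 (h w hw)⟩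

theorem hopf_sub [Module.Flat R B] {co : HopfRep.Comod R B X} (hX : K83.IsHopfMod c X co) (W : Submodule D X)
    (h : Stable co W) : K83.IsHopfMod c W (subC co W h) := by
  refine ⟨fun d w => ?_⟩
  have hinj : Function.Injective ((W.subtype.restrictScalars R).rTensor B) :=
    Module.Flat.rTensor_preserves_injective_linearMap (M := B) _ Subtype.val_injective
  apply hinj
  have h1 := subC_hom co W h
  change (W.subtype.restrictScalars R).rTensor B ((subC co W h).coact (d • w)) =
    (W.subtype.restrictScalars R).rTensor B (act R B D W (c.ρ d) ((subC co W h).coact w))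
  rw [act_rTensor, ← h1, ← h1, map_smul]
  exact hX.smul d _

theorem hopf_quot {co : HopfRep.Comod R B X} (hX : K83.IsHopfMod c X co) (W : Submodule D X)
    (h : Stable co W) : K83.IsHopfMod c (X ⧸ W) (quotC co W h) := by
  refine ⟨fun d n => ?_⟩
  obtain ⟨x, rfl⟩ := W.mkQ_surjective n
  have h1 := quotC_hom co W h
  rw [← map_smul, h1, h1]
  change _ = act R B D (X ⧸ W) (c.ρ d) ((W.mkQ.restrictScalars R).rTensor B (co.coact x))
  rw [← act_rTensor]
  exact congrArg _ (hX.smul d x)

theorem isComodHom_sub [Module.Flat R B] (co : HopfRep.Comod R B X) (W : Submodule D X) (h : Stable co W) :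
    letI := subC co W h
    Hoch.IsComodHom (k := R) B (W.subtype.restrictScalars R) :=
  LinearMap.ext (subC_hom co W h)

theorem isComodHom_mkQ (co : HopfRep.Comod R B X) (W : Submodule D X) (h : Stable co W) :
    letI := quotC co W h
    Hoch.IsComodHom (k := R) B (W.mkQ.restrictScalars R) :=
  LinearMap.ext (quotC_hom co W h)

section Maps

variable {co : HopfRep.Comod R B X} {co' : HopfRep.Comod R B Y} {f : X →ₗ[D] Y}

theorem equi_iff : Equi co co' f ↔ Hoch.IsComodHom (k := R) B (f.restrictScalars R) :=
  ⟨fun h => LinearMap.ext h, fun h v => DFunLike.congr_fun h v⟩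

theorem st_ker [Module.Flat R B] (hf : Hoch.IsComodHom (k := R) B (f.restrictScalars R)) :
    Stable co (LinearMap.ker f) := by
  have := Stable.comap (equi_iff.2 hf) (Stable.bot (P := D) co')
  exact this

theorem st_range (hf : Hoch.IsComodHom (k := R) B (f.restrictScalars R)) :
    Stable co' (LinearMap.range f) := by
  have := Stable.map (equi_iff.2 hf) (Stable.top (P := D) co)
  rwa [Submodule.map_top] at this

end Maps

end Groth.Agent.ResProp.EF.K84.HopfSub
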